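import Cfsg.Agent.Lib.Fi23Sylow.Data
import Cfsg.Agent.EqLemmas

/-!
Finite checks on the action of the 128 top elements on the 2^11 (helper41).

* `apN`, `act`, `mt`, `apT`, `act_eq`
* `red`, `red_check`, `code_inj`, `inv_mem`, `single_le`, `pair_le`, `deg_le`
-/

set_option autoImplicit false
set_option maxRecDepth 100000

namespace Cfsg.Agent.Fi23Sylow

/-- A linear map given by columns, on the first `n` bits. -/
def apN (f : ℕ → ℕ) : ℕ → ℕ → ℕ
  | 0, _ => 0
  | n + 1, v => apN f n v ^^^ bif v.testBit n then f n else 0

/-- column `i` of the `k`-th top generator -/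
def mcol (k i : ℕ) : ℕ := (mcols.getD k []).getD i 0

/-- The action of a normal form of top generators. -/
def act : ℕ → ℕ → ℕ → ℕ
  | 0, _, v => v
  | k + 1, e, v => act k e (bif e.testBit k then apN (mcol k) 11 v else v)

/-- Column of the tabled matrix. -/
def mt (e i : ℕ) : ℕ := (acode.getD e 0) >>> (11 * i) &&& 2047

/-- The tabled action. -/
def apT (e v : ℕ) : ℕ := apN (mt e) 11 v

theorem apN_congr {f f' : ℕ → ℕ} : ∀ {n : ℕ} (v : ℕ), (∀ i < n, f i = f' i) → apN f n v = apN f' n v
  | 0, _, _ => rfl
  | n + 1, v, h => by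
    rw [apN, apN, apN_congr v fun i hi => h i (by omega), h n (by omega)]

theorem apN_xor (f : ℕ → ℕ) : ∀ (n a b : ℕ), apN f n (a ^^^ b) = apN f n a ^^^ apN f n b
  | 0, _, _ => by simp [apN]
  | n + 1, a, b => by
    simp only [apN, apN_xor f n, Nat.testBit_xor]
    cases a.testBit n <;> cases b.testBit n <;>
      simp [Nat.xor_comm, Nat.xor_left_comm, Nat.xor_assoc]

theorem apN_zero (f : ℕ → ℕ) : ∀ n : ℕ, apN f n 0 = 0
  | 0 => rfl
  | n + 1 => by simp [apN, apN_zero f n]

theorem apN_lt {f : ℕ → ℕ} : ∀ {n : ℕ} (v : ℕ), (∀ i < n, f i < 2048) → apN f n v < 2048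
  | 0, _, _ => by simp [apN]
  | n + 1, v, h => by
    rw [apN]
    refine Nat.xor_lt_two_pow (n := 11) (apN_lt v fun i hi => h i (by omega)) ?_
    cases v.testBit n
    · norm_num
    · exact h n (by omega)

theorem act_xor : ∀ (k e a b : ℕ), act k e (a ^^^ b) = act k e a ^^^ act k e b
  | 0, _, _, _ => rfl
  | k + 1, e, a, b => by
    simp only [act]
    cases e.testBit k <;> simp [apN_xor, act_xor k]

theorem act_zero : ∀ (k e : ℕ), act k e 0 = 0
  | 0, _ => rfl
  | k + 1, e => by
    rw [act]
    cases e.testBit k <;> simp [apN_zero, act_zero k]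

theorem linear_eq {h : ℕ → ℕ} (h0 : h 0 = 0) (hx : ∀ a b, h (a ^^^ b) = h a ^^^ h b) :
    ∀ (n v : ℕ), h (v % 2 ^ n) = apN (fun i => h (2 ^ i)) n v
  | 0, v => by simp [apN, Nat.mod_one, h0]
  | n + 1, v => by
    have key : v % 2 ^ (n + 1) = (v % 2 ^ n) ^^^ bif v.testBit n then 2 ^ n else 0 := by
      refine Nat.eq_of_testBit_eq fun i => ?_
      rw [Nat.testBit_mod_two_pow, Nat.testBit_xor, Nat.testBit_mod_two_pow]
      rcases eq_or_ne i n with rfl | hi
      · cases hb : v.testBit i <;> simp
      · cases hb : v.testBit n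
        · by_cases h1 : i < n
          · simp [h1, show i < n + 1 by omega]
          · simp [h1, show ¬ i < n + 1 by omega]
        · by_cases h1 : i < n
          · simp [h1, show i < n + 1 by omega, Nat.testBit_two_pow_of_ne (Ne.symm hi)]
          · simp [h1, show ¬ i < n + 1 by omega, Nat.testBit_two_pow_of_ne (Ne.symm hi)]
    rw [key, hx, linear_eq h0 hx n v, apN]
    cases v.testBit n <;> simp [h0]

theorem act_table : ((List.range 128).all fun e => (List.range 11).all fun i =>
    Nat.beq (act 7 e (1 <<< i)) (mt e i)) = true := by decide +kernel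

theorem mt_lt (e i : ℕ) : mt e i < 2048 := by
  have := Nat.and_le_right (n := (acode.getD e 0) >>> (11 * i)) (m := 2047)
  unfold mt
  omega

theorem apT_lt (e v : ℕ) : apT e v < 2048 := apN_lt v fun i _ => mt_lt e i

theorem act_eq {e v : ℕ} (he : e < 128) (hv : v < 2048) : act 7 e v = apT e v := by
  have h := linear_eq (h := act 7 e) (act_zero 7 e) (act_xor 7 e) 11 v
  rw [Nat.mod_eq_of_lt (show v < 2 ^ 11 from hv)] at h
  rw [h, apT]
  refine apN_congr v fun i hi => ?_
  have := List.all_eq_true.mp (List.all_eq_true.mp act_table e (List.mem_range.mpr he)) i (List.mem_range.mpr hi)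
  rw [← Nat.one_shiftLeft]
  exact Nat.eq_of_beq_eq_true this

/-- Reduction of a vector to a fixed one by the augmentation ideal. -/
def red : ℕ → ℕ → Bool
  | 0, m => fixd.contains m
  | f + 1, m => fixd.contains m ||
    (List.range 7).any fun k => !Nat.beq (m ^^^ apN (mcol k) 11 m) 0 && red f (m ^^^ apN (mcol k) 11 m)

theorem red_check : ((List.range 2048).all fun m => Nat.beq m 0 || red 11 m) = true := by decide +kernel

theorem mcol_lt_check : ((List.range 7).all fun k => (List.range 11).all fun i => Nat.blt (mcol k i) 2048) = true := by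
  decide +kernel

theorem mcol_lt {k i : ℕ} (hk : k < 7) (hi : i < 11) : mcol k i < 2048 :=
  Nat.blt_eq.mp (List.all_eq_true.mp (List.all_eq_true.mp mcol_lt_check k (List.mem_range.mpr hk)) i (List.mem_range.mpr hi))

/-- No repetition. -/
def distinct : List ℕ → Bool
  | [] => true
  | a :: l => l.all (fun b => !Nat.beq a b) && distinct l

theorem distinct_nodup : ∀ {l : List ℕ}, distinct l = true → l.Nodup
  | [], _ => List.nodup_nil
  | a :: l, h => by
    simp only [distinct, Bool.and_eq_true, List.all_eq_true, Bool.not_eq_true'] at h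
    refine List.nodup_cons.mpr ⟨fun ha => ?_, distinct_nodup h.2⟩
    have := h.1 a ha
    rw [Nat.beq_refl] at this
    exact Bool.noConfusion this

theorem acode_check : (distinct acode && Nat.beq acode.length 128 &&
    acode.all fun c => Nat.blt c (2 ^ 121)) = true := by decide +kernel

theorem code_inj {e e' : ℕ} (he : e < 128) (he' : e' < 128) (h : ∀ i < 11, mt e i = mt e' i) : e = e' := by
  have hc := acode_check
  simp only [Bool.and_eq_true, List.all_eq_true, Nat.blt_eq] at hc
  obtain ⟨⟨hnd, hlen⟩, hlt⟩ := hc
  have hlen' := Nat.eq_of_beq_eq_true hlen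
  refine (distinct_nodup hnd).getElem_inj_iff.mp
    (?_ : acode[e]'(by omega) = acode[e']'(by omega))
  refine Nat.eq_of_testBit_eq fun b => ?_
  by_cases hb : b < 121
  · have := congrArg (fun x => x.testBit (b % 11)) (h (b / 11) (by omega))
    simp only [mt, List.getD_eq_getElem _ _ (show e < acode.length by omega),
      List.getD_eq_getElem _ _ (show e' < acode.length by omega), Nat.testBit_and, Nat.testBit_shiftRight,
      show (2047 : ℕ) = 2 ^ 11 - 1 from rfl, Nat.testBit_two_pow_sub_one, Nat.div_add_mod] at this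
    simpa [show b % 11 < 11 by omega] using this
  · have hp : 2 ^ 121 ≤ 2 ^ b := Nat.pow_le_pow_right (by norm_num) (by omega)
    rw [Nat.testBit_lt_two_pow (lt_of_lt_of_le (hlt _ (List.getElem_mem _)) hp),
      Nat.testBit_lt_two_pow (lt_of_lt_of_le (hlt _ (List.getElem_mem _)) hp)]

/-- The square acts trivially. -/
def invB (e : ℕ) : Bool := (List.range 11).all fun i => Nat.beq (apT e (mt e i)) (1 <<< i)

/-- The two actions commute. -/
def commB (x y : ℕ) : Bool := (List.range 11).all fun i => Nat.beq (apT x (mt y i)) (apT y (mt x i))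

theorem inv_check : ((List.range 128).all fun e => Nat.beq e 0 || (invs.contains e || !invB e)) = true := by
  decide +kernel

theorem inv_mem {e : ℕ} (he : e < 128) (h0 : e ≠ 0) (h : invB e = true) : e ∈ invs := by
  have := List.all_eq_true.mp inv_check e (List.mem_range.mpr he)
  simp only [h, Bool.or_eq_true, Bool.not_true, Bool.false_eq_true, or_false, List.contains_iff_mem] at this
  exact this.resolve_left fun h1 => h0 (Nat.eq_of_beq_eq_true h1)

/-- Vectors vanishing on given coordinates. -/
def cand (S : List ℕ) : ℕ → List ℕ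
  | 0 => [0]
  | n + 1 => bif S.contains n then cand S n else cand S n ++ (cand S n).map fun m => m ^^^ 2 ^ n

theorem mem_cand {S : List ℕ} : ∀ {n m : ℕ}, m < 2 ^ n → (∀ i ∈ S, m.testBit i = false) → m ∈ cand S n
  | 0, m, h, _ => by
    rw [cand, List.mem_singleton]
    omega
  | n + 1, m, h, hS => by
    by_cases hb : m.testBit n = true
    · have hn : n ∉ S := fun hn => by simp [hS n hn] at hb
      have hlt : m ^^^ 2 ^ n < 2 ^ n := by
        refine Nat.lt_pow_two_of_testBit _ fun i hi => ?_
        rw [Nat.testBit_xor]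
        rcases eq_or_lt_of_le hi with rfl | hi'
        · simp [hb]
        · rw [Nat.testBit_lt_two_pow (lt_of_lt_of_le h (Nat.pow_le_pow_right (by norm_num) hi')),
            Nat.testBit_two_pow_of_ne (by omega)]
          rfl
      rw [cand, show S.contains n = false by simpa using hn, cond_false]
      refine List.mem_append_right _ (List.mem_map.mpr ⟨_, mem_cand hlt fun i hi => ?_, ?_⟩)
      · rw [Nat.testBit_xor, hS i hi, Nat.testBit_two_pow_of_ne (fun he : n = i => hn (by rw [he]; exact hi))]
        rfl
      · rw [Nat.xor_assoc, Nat.xor_self, Nat.xor_zero]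
    · have hlt : m < 2 ^ n := by
        refine Nat.lt_pow_two_of_testBit _ fun i hi => ?_
        rcases eq_or_lt_of_le hi with rfl | hi'
        · simpa using hb
        · exact Nat.testBit_lt_two_pow (lt_of_lt_of_le h (Nat.pow_le_pow_right (by norm_num) hi'))
      have := mem_cand hlt hS
      rw [cand]
      cases S.contains n
      · exact List.mem_append_left _ this
      · exact this

theorem single_check : (singles.all fun p => Nat.beq p.2.length 7 &&
    (cand p.2 11).all fun m => Nat.beq m 0 || !Nat.beq (apT p.1 m) m) = true := by decide +kernel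

theorem single_keys : singles.map Prod.fst = invs := by decide +kernel

theorem pair_check : (pairs.all fun p => Nat.beq p.2.length 6 &&
    (cand p.2 11).all fun m => Nat.beq m 0 ||
      (!Nat.beq (apT p.1.1 m) m || !Nat.beq (apT p.1.2 m) m)) = true := by decide +kernel

theorem pair_keys : (pairs.map Prod.fst) =
    invs.flatMap (fun x => (invs.filter fun y => Nat.blt x y && commB x y).map fun y => (x, y)) := by decide +kernel

theorem deg_check : (invs.all fun x => Nat.beq x cen || Nat.ble (invs.filter (commB x)).length 27) = true := by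
  decide +kernel

end Cfsg.Agent.Fi23Sylow
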