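import Cfsg.Agent.Lib.Fi23Sylow.Rels

/-!
The subgroup 2^11.P of order 2^18 of the presented Fi23 (helper41).

* `kEl_mul`, `kEl_inj`, `pEl_kEl`, `act_comp`
* `InS`, `sylowSub`, `nf_inj`, `card_sylowSub`, `kSub`
-/

set_option autoImplicit false
set_option maxRecDepth 10000

namespace Cfsg.Agent.Fi23Sylow

open Cfsg.Agent.CosetEnum

theorem kEl_zero : ∀ n : ℕ, kEl n 0 = 1
  | 0 => rfl
  | n + 1 => by simp [kEl_succ, kEl_zero n]

theorem pEl_zero : ∀ k : ℕ, pEl k 0 = 1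
  | 0 => rfl
  | k + 1 => by simp [pEl_succ, pEl_zero k]

theorem g_comm_kEl {i : ℕ} (hi : i < 11) : ∀ {n : ℕ}, n ≤ 11 → ∀ m, g i * kEl n m = kEl n m * g i
  | 0, _, m => by simp [kEl, kIdx, prodG]
  | n + 1, hn, m => by
    rw [kEl_succ, ← mul_assoc, g_comm_kEl hi (by omega), mul_assoc, mul_assoc]
    cases m.testBit n
    · simp
    · simp [bcomm hi (show n < 11 by omega)]

theorem kEl_mul : ∀ {n : ℕ}, n ≤ 11 → ∀ a b, kEl n a * kEl n b = kEl n (a ^^^ b)
  | 0, _, a, b => by simp [kEl, kIdx, prodG]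
  | n + 1, hn, a, b => by
    have hn' : n < 11 := by omega
    have hc := g_comm_kEl hn' hn'.le b
    have ih := kEl_mul hn'.le a b
    rw [kEl_succ, kEl_succ, kEl_succ, Nat.testBit_xor]
    cases ha : a.testBit n <;> cases hb : b.testBit n <;> simp only [cond_true, cond_false, mul_one, bne_self_eq_false,
      Bool.false_bne, Bool.true_bne, Bool.not_false]
    · exact ih
    · rw [← mul_assoc, ih]
    · rw [mul_assoc, hc, ← mul_assoc, ih]
    · rw [mul_assoc, ← mul_assoc (g n), hc, mul_assoc (kEl n b), bsq hn', mul_one, ih]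

theorem kEl_congr : ∀ {n a b : ℕ}, (∀ i < n, a.testBit i = b.testBit i) → kEl n a = kEl n b
  | 0, _, _, _ => rfl
  | n + 1, a, b, h => by rw [kEl_succ, kEl_succ, kEl_congr fun i hi => h i (by omega), h n (by omega)]

theorem pEl_congr : ∀ {k a b : ℕ}, (∀ i < k, a.testBit i = b.testBit i) → pEl k a = pEl k b
  | 0, _, _, _ => rfl
  | k + 1, a, b, h => by rw [pEl_succ, pEl_succ, pEl_congr fun i hi => h i (by omega), h k (by omega)]

theorem conj_kEl_aux {k : ℕ} (hk : k < 7) : ∀ {n : ℕ}, n ≤ 11 → ∀ m,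
    g (11 + k) * kEl n m = kEl 11 (apN (mcol k) n m) * g (11 + k)
  | 0, _, m => by rw [apN, kEl_zero 11]; simp [kEl, kIdx, prodG]
  | n + 1, hn, m => by
    rw [kEl_succ, apN, ← kEl_mul le_rfl, ← mul_assoc, conj_kEl_aux hk (by omega)]
    cases m.testBit n
    · simp [kEl_zero]
    · simp only [cond_true]
      rw [mul_assoc, conj_rel hk (show n < 11 by omega), ← mul_assoc]

theorem conj_kEl {k : ℕ} (hk : k < 7) (m : ℕ) :
    g (11 + k) * kEl 11 m = kEl 11 (apN (mcol k) 11 m) * g (11 + k) := conj_kEl_aux hk le_rfl m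

theorem kEl_red : ∀ {f m : ℕ}, red f m = true → kEl 11 m ≠ 1
  | 0, m, h => kEl_moves (by simpa [red, List.contains_iff_mem] using h)
  | f + 1, m, h => by
    simp only [red, Bool.or_eq_true, List.any_eq_true, Bool.and_eq_true, List.mem_range,
      List.contains_iff_mem] at h
    obtain h | ⟨k, hk, -, hred⟩ := h
    · exact kEl_moves h
    intro he
    refine kEl_red hred ?_
    rw [← kEl_mul le_rfl, he, one_mul]
    have := conj_kEl hk m
    rw [he, mul_one] at this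
    exact mul_eq_right.mp this.symm

theorem kEl_eq_one {m : ℕ} (hm : m < 2048) (h : kEl 11 m = 1) : m = 0 := by
  by_contra h0
  have := List.all_eq_true.mp red_check m (List.mem_range.mpr hm)
  simp only [Bool.or_eq_true] at this
  obtain h1 | h1 := this
  · exact h0 (Nat.eq_of_beq_eq_true h1)
  · exact kEl_red h1 h

theorem kEl_inj {a b : ℕ} (ha : a < 2048) (hb : b < 2048) (h : kEl 11 a = kEl 11 b) : a = b := by
  have h1 : kEl 11 (a ^^^ b) = 1 := by
    rw [← kEl_mul le_rfl, h, kEl_mul le_rfl, Nat.xor_self, kEl_zero]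
  exact Nat.eq_of_xor_eq_zero (kEl_eq_one (Nat.xor_lt_two_pow (n := 11) ha hb) h1)

theorem pEl_kEl : ∀ {k : ℕ}, k ≤ 7 → ∀ e v, pEl k e * kEl 11 v = kEl 11 (act k e v) * pEl k e
  | 0, _, e, v => by simp [pEl, pIdx, prodG, act]
  | k + 1, hk, e, v => by
    rw [pEl_succ, act]
    cases e.testBit k
    · simp [pEl_kEl (show k ≤ 7 by omega)]
    · simp only [cond_true]
      rw [mul_assoc, conj_kEl (show k < 7 by omega), ← mul_assoc, pEl_kEl (show k ≤ 7 by omega), mul_assoc]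

/-- Normal forms using the first `k` top generators. -/
def InS (k : ℕ) (x : fi23Setup.G) : Prop := ∃ m e, x = kEl 11 m * pEl k e

theorem InS.one (k : ℕ) : InS k 1 := ⟨0, 0, by rw [kEl_zero, pEl_zero, one_mul]⟩

theorem InS.left {k : ℕ} {x : fi23Setup.G} (hx : InS k x) (a : ℕ) : InS k (kEl 11 a * x) := by
  obtain ⟨m, e, rfl⟩ := hx
  exact ⟨a ^^^ m, e, by rw [← mul_assoc, kEl_mul le_rfl]⟩

theorem InS.succ {k : ℕ} {x : fi23Setup.G} :
    InS (k + 1) x ↔ ∃ y, InS k y ∧ (x = y ∨ x = y * g (11 + k)) := by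
  constructor
  · rintro ⟨m, e, rfl⟩
    refine ⟨kEl 11 m * pEl k e, ⟨m, e, rfl⟩, ?_⟩
    rw [pEl_succ]
    cases e.testBit k
    · left; simp
    · right; simp [mul_assoc]
  · rintro ⟨y, ⟨m, e, rfl⟩, rfl | rfl⟩
    · refine ⟨m, e % 2 ^ k, ?_⟩
      rw [pEl_succ, pEl_congr (a := e % 2 ^ k) (b := e) fun i hi => by simp [Nat.testBit_mod_two_pow, hi]]
      simp [Nat.testBit_mod_two_pow]
    · refine ⟨m, e ||| 2 ^ k, ?_⟩
      rw [pEl_succ, pEl_congr (a := e ||| 2 ^ k) (b := e) fun i hi => by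
        simp [Nat.testBit_two_pow_of_ne (show k ≠ i by omega)]]
      simp [mul_assoc]

theorem InS.mul : ∀ {k : ℕ}, k ≤ 7 → ∀ {x y : fi23Setup.G}, InS k x → InS k y → InS k (x * y)
  | 0, _, x, y, ⟨m, e, hx⟩, ⟨m', e', hy⟩ => by
    subst hx hy
    exact ⟨m ^^^ m', 0, by simp [pEl, pIdx, prodG, kEl_mul le_rfl]⟩
  | k + 1, hk, x, y, hx, hy => by
    have hk' : k < 7 := by omega
    have mulk : ∀ {a b : fi23Setup.G}, InS k a → InS k b → InS k (a * b) := fun ha hb => InS.mul hk'.le ha hb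
    have hp : ∀ (e j : ℕ), j ≤ k → ∃ z, InS k z ∧ g (11 + k) * pEl j e = z * g (11 + k) := by
      intro e j
      induction j with
      | zero => exact fun _ => ⟨1, InS.one k, by simp [pEl, pIdx, prodG]⟩
      | succ j ih =>
        intro hj
        obtain ⟨z, hz, hz'⟩ := ih (by omega)
        rw [pEl_succ, ← mul_assoc, hz']
        cases e.testBit j
        · exact ⟨z, hz, by simp⟩
        · refine ⟨z * (kEl 11 (cmE k j).2 * pEl k (cmE k j).1), mulk hz ⟨_, _, rfl⟩, ?_⟩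
          simp only [cond_true]
          rw [mul_assoc, cm_rel hk' (show j < k by omega)]
          simp only [mul_assoc]
    have hw : ∀ {a : fi23Setup.G}, InS k a → ∃ z, InS k z ∧ g (11 + k) * a = z * g (11 + k) := by
      rintro a ⟨m, e, rfl⟩
      obtain ⟨z, hz, hz'⟩ := hp e k le_rfl
      refine ⟨_, hz.left (apN (mcol k) 11 m), ?_⟩
      rw [← mul_assoc, conj_kEl hk', mul_assoc, hz', ← mul_assoc]
    have hsq : InS k (g (11 + k) * g (11 + k)) := by rw [sq_rel hk']; exact ⟨_, _, rfl⟩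
    rw [InS.succ] at hx hy ⊢
    obtain ⟨a, ha, hx⟩ := hx
    obtain ⟨b, hb, hy⟩ := hy
    obtain ⟨z, hz, hz'⟩ := hw hb
    rcases hx with rfl | rfl <;> rcases hy with rfl | rfl
    · exact ⟨_, mulk ha hb, Or.inl rfl⟩
    · exact ⟨_, mulk ha hb, Or.inr (mul_assoc _ _ _).symm⟩
    · exact ⟨_, mulk ha hz, Or.inr (by rw [mul_assoc, hz', ← mul_assoc])⟩
    · exact ⟨_, mulk (mulk ha hz) hsq, Or.inl (by
        rw [mul_assoc a, ← mul_assoc (g (11 + k)), hz']; simp only [mul_assoc])⟩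

theorem InS.inv {x : fi23Setup.G} (hx : InS 7 x) : InS 7 x⁻¹ := by
  have := fi23_finite
  have hpow : ∀ n : ℕ, InS 7 (x ^ n) := by
    intro n
    induction n with
    | zero => rw [pow_zero]; exact InS.one 7
    | succ n ih => rw [pow_succ]; exact InS.mul le_rfl ih hx
  have h : x⁻¹ = x ^ (orderOf x - 1) := by
    rw [inv_eq_iff_mul_eq_one, ← pow_succ', Nat.sub_add_cancel (orderOf_pos x), pow_orderOf_eq_one]
  rw [h]
  exact hpow _

/-- The Sylow 2-subgroup. -/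
def sylowSub : Subgroup fi23Setup.G where
  carrier := {x | InS 7 x}
  one_mem' := InS.one 7
  mul_mem' := InS.mul le_rfl
  inv_mem' := InS.inv

theorem exists_nf {x : fi23Setup.G} (hx : x ∈ sylowSub) :
    ∃ m e, m < 2048 ∧ e < 128 ∧ x = kEl 11 m * pEl 7 e := by
  obtain ⟨m, e, rfl⟩ := hx
  refine ⟨m % 2 ^ 11, e % 2 ^ 7, Nat.mod_lt _ (by norm_num), Nat.mod_lt _ (by norm_num), ?_⟩
  rw [kEl_congr (a := m % 2 ^ 11) (b := m) fun i hi => by rw [Nat.testBit_mod_two_pow]; simp [hi],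
    pEl_congr (a := e % 2 ^ 7) (b := e) fun i hi => by rw [Nat.testBit_mod_two_pow]; simp [hi]]

theorem nf_kEl {m e : ℕ} (he : e < 128) {v : ℕ} (hv : v < 2048) :
    kEl 11 m * pEl 7 e * kEl 11 v = kEl 11 (apT e v) * (kEl 11 m * pEl 7 e) := by
  rw [mul_assoc, pEl_kEl le_rfl, ← mul_assoc, kEl_mul le_rfl, Nat.xor_comm, ← kEl_mul le_rfl, act_eq he hv,
    mul_assoc]

theorem apN_two_pow (f : ℕ → ℕ) (i : ℕ) : ∀ n : ℕ, apN f n (2 ^ i) = if i < n then f i else 0
  | 0 => by simp [apN]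
  | n + 1 => by
    rw [apN, apN_two_pow f i n]
    rcases lt_trichotomy i n with h | rfl | h
    · simp [h, h.trans (Nat.lt_succ_self n), Nat.testBit_two_pow_of_ne h.ne]
    · simp
    · simp [not_lt.mpr h.le, Nat.testBit_two_pow_of_ne h.ne', show ¬ i < n + 1 by omega]

theorem apT_single {e : ℕ} {i : ℕ} (hi : i < 11) : apT e (1 <<< i) = mt e i := by
  rw [apT, Nat.one_shiftLeft]
  rw [apN_two_pow, if_pos hi]

theorem mt_eq_of_comm {x : fi23Setup.G} {e e' : ℕ}
    (h : ∀ v < 2048, x * kEl 11 v = kEl 11 (apT e v) * x)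
    (h' : ∀ v < 2048, x * kEl 11 v = kEl 11 (apT e' v) * x) : ∀ i < 11, mt e i = mt e' i := fun i hi => by
  have hv : 1 <<< i < 2048 := by
    rw [Nat.one_shiftLeft]; exact (Nat.pow_lt_pow_right (by norm_num) hi).trans_le le_rfl
  rw [← apT_single hi, ← apT_single hi]
  exact kEl_inj (apT_lt _ _) (apT_lt _ _) (mul_right_cancel ((h _ hv).symm.trans (h' _ hv)))

theorem nf_inj {m e m' e' : ℕ} (hm : m < 2048) (he : e < 128) (hm' : m' < 2048) (he' : e' < 128)
    (h : kEl 11 m * pEl 7 e = kEl 11 m' * pEl 7 e') : m = m' ∧ e = e' := by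
  have hee : e = e' := code_inj he he' (mt_eq_of_comm (fun v hv => nf_kEl (m := m) he hv)
    (fun v hv => by rw [h]; exact nf_kEl he' hv))
  subst hee
  exact ⟨kEl_inj hm hm' (mul_right_cancel h), rfl⟩

theorem card_sylowSub : Nat.card sylowSub = 2 ^ 18 := by
  have hb : Function.Bijective (fun p : Fin 2048 × Fin 128 =>
      (⟨kEl 11 p.1 * pEl 7 p.2, _, _, rfl⟩ : sylowSub)) := by
    constructor
    · intro p q h
      obtain ⟨h1, h2⟩ := nf_inj p.1.2 p.2.2 q.1.2 q.2.2 (congrArg Subtype.val h)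
      exact Prod.ext (Fin.ext h1) (Fin.ext h2)
    · rintro ⟨x, hx⟩
      obtain ⟨m, e, hm, he, rfl⟩ := exists_nf hx
      exact ⟨(⟨m, hm⟩, ⟨e, he⟩), rfl⟩
  rw [← Nat.card_congr (Equiv.ofBijective _ hb)]
  simp

/-- The elementary abelian subgroup of order 2^11. -/
def kSub : Subgroup fi23Setup.G where
  carrier := {x | ∃ m, m < 2048 ∧ x = kEl 11 m}
  one_mem' := ⟨0, by norm_num, (kEl_zero 11).symm⟩
  mul_mem' := by
    rintro _ _ ⟨a, ha, rfl⟩ ⟨b, hb, rfl⟩
    exact ⟨a ^^^ b, Nat.xor_lt_two_pow (n := 11) ha hb, kEl_mul le_rfl a b⟩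
  inv_mem' := by
    rintro _ ⟨a, ha, rfl⟩
    refine ⟨a, ha, inv_eq_iff_mul_eq_one.mpr ?_⟩
    rw [kEl_mul le_rfl, Nat.xor_self, kEl_zero]

end Cfsg.Agent.Fi23Sylow
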