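import Cfsg.Agent.Lib.Fi23Sylow.Lookup
import Cfsg.Agent.Lib.Fi23Sylow.Check

/-!
Power-conjugate relations of the 2-subgroup 2^11.P of the presented Fi23, checked on the base points (helper41).

* `g`: the 18 generators; `kEl`, `pEl`: normal forms
* `bsq`, `bcomm`, `conj_rel`, `sq_rel`, `cm_rel`, `kEl_moves`
-/

set_option autoImplicit false
set_option maxRecDepth 100000

namespace Cfsg.Agent.Fi23Sylow

open Cfsg.Agent.CosetEnum Cfsg.Agent.CosetEnum.Data

/-- A product of generators on a point. -/
noncomputable def app (ts : List PTree) (idx : List ℕ) (x : ℕ) : ℕ :=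
  List.rec (motive := fun _ => ℕ) x (fun i _ ih => force ih fun y => runW ts (gwords.getD i []) y) idx

/-- The generators. -/
noncomputable def g (i : ℕ) : fi23Setup.G := ev fi23Setup.el (gwords.getD i [])

/-- A product of generators. -/
noncomputable def prodG (idx : List ℕ) : fi23Setup.G := (idx.map g).prod

/-- The indices of a vector on the first `n` transpositions. -/
def kIdx : ℕ → ℕ → List ℕ
  | 0, _ => []
  | n + 1, m => kIdx n m ++ bif m.testBit n then [n] else []

/-- The indices of a normal form of the first `k` top generators. -/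
def pIdx : ℕ → ℕ → List ℕ
  | 0, _ => []
  | k + 1, e => pIdx k e ++ bif e.testBit k then [11 + k] else []

/-- column `i` of the `k`-th top generator -/
abbrev mc := mcol

/-- square data -/
def sqE (k : ℕ) : ℕ × ℕ := sqd.getD k (0, 0)

/-- conjugation data -/
def cmE (k j : ℕ) : ℕ × ℕ := (cmd.getD k []).getD j (0, 0)

/-- All claimed relations. -/
def relList : List (List ℕ × List ℕ) :=
  (List.range 11).map (fun i => ([i, i], [])) ++
  (List.range 11).flatMap (fun i => (List.range 11).map fun j => ([i, j], [j, i])) ++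
  (List.range 7).flatMap (fun k => (List.range 11).map fun i => ([11 + k, i], kIdx 11 (mc k i) ++ [11 + k])) ++
  (List.range 7).map (fun k => ([11 + k, 11 + k], kIdx 11 (sqE k).2 ++ pIdx k (sqE k).1)) ++
  (List.range 7).flatMap (fun k => (List.range k).map fun j =>
    ([11 + k, 11 + j], kIdx 11 (cmE k j).2 ++ pIdx k (cmE k j).1 ++ [11 + k]))

/-- One relation holds on the base. -/
noncomputable def eqOK (ts : List PTree) (p : List ℕ × List ℕ) : Bool :=
  p.1.all (fun i => Nat.blt i 18) && (p.2.all (fun i => Nat.blt i 18) &&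
    baseRoots.all fun x => Nat.beq (app ts p.1 x) (app ts p.2 x))

/-- The kernel check. -/
noncomputable def certOK : Bool :=
  gwords.all (fun w => w.all fun a => Nat.blt a fi23h.k) && (Nat.beq gwords.length 18 &&
    forTrees 10 fun ts => relList.all (eqOK ts) &&
      fixd.all fun m =>
        (kIdx 11 m).all (fun i => Nat.blt i 18) && baseRoots.any fun x => !Nat.beq (app ts (kIdx 11 m) x) x)

theorem cert : certOK = true := by decide +kernel

theorem gwords_spec : gwords.length = 18 ∧ ∀ w ∈ gwords, ∀ a ∈ w, a < fi23h.k := by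
  have h := cert
  simp only [certOK, Bool.and_eq_true, List.all_eq_true, beq_iff, Nat.blt_eq] at h
  exact ⟨h.2.1, h.1⟩

theorem app_eq : ∀ (idx : List ℕ), (∀ i ∈ idx, i < 18) → ∀ x : Fin fi23h.n,
    app (treesOf 10) idx x = (rho (prodG idx) x : ℕ)
  | [], _, x => by simp [app, prodG]
  | i :: l, h, x => by
    show force (app (treesOf 10) l x) (fun y => runW (treesOf 10) (gwords.getD i []) y) = _
    rw [force_eq, app_eq l (fun j hj => h j (List.mem_cons_of_mem _ hj)) x]
    have hi : i < gwords.length := by rw [gwords_spec.1]; exact h i List.mem_cons_self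
    have hw : ∀ a ∈ gwords[i], a < fi23h.k := gwords_spec.2 _ (List.getElem_mem hi)
    rw [List.getD_eq_getElem _ _ hi, runW_eq _ hw _ (rho (prodG l) x).2]
    rw [prodG, prodG, List.map_cons, List.prod_cons, map_mul, Equiv.Perm.mul_apply, g,
      List.getD_eq_getElem _ _ hi, rho_ev _ hw, Setup.ev_perm _ _ hw]

theorem root_lt {b : ℕ} (hb : b ∈ baseRoots) : b < fi23h.n := by
  have : (baseRoots.all fun b => Nat.blt b fi23h.n) = true := by decide +kernel
  exact Nat.blt_eq.mp (List.all_eq_true.mp this b hb)

theorem rel {p : List ℕ × List ℕ} (hp : p ∈ relList) : prodG p.1 = prodG p.2 := by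
  have h := cert
  simp only [certOK, forTrees_eq, Bool.and_eq_true, List.all_eq_true] at h
  have h1 := h.2.2.1 p hp
  simp only [eqOK, Bool.and_eq_true, List.all_eq_true, Nat.blt_eq, beq_iff] at h1
  refine ext_base fun b hb i hi => Fin.ext ?_
  rw [← app_eq _ h1.1, ← app_eq _ h1.2.1, hi]
  exact h1.2.2 b hb

/-- A vector in the span of the transpositions. -/
noncomputable def kEl (n m : ℕ) : fi23Setup.G := prodG (kIdx n m)

/-- A normal form of top generators. -/
noncomputable def pEl (k e : ℕ) : fi23Setup.G := prodG (pIdx k e)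

theorem prodG_append (u v : List ℕ) : prodG (u ++ v) = prodG u * prodG v := by
  simp [prodG]

theorem prodG_single (i : ℕ) : prodG [i] = g i := by simp [prodG]

theorem prodG_nil : prodG [] = 1 := rfl

theorem kEl_succ (n m : ℕ) : kEl (n + 1) m = kEl n m * bif m.testBit n then g n else 1 := by
  rw [kEl, kIdx, prodG_append, ← kEl]
  cases m.testBit n <;> simp [prodG]

theorem pEl_succ (k e : ℕ) : pEl (k + 1) e = pEl k e * bif e.testBit k then g (11 + k) else 1 := by
  rw [pEl, pIdx, prodG_append, ← pEl]
  cases e.testBit k <;> simp [prodG]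

theorem kEl_moves {m : ℕ} (hm : m ∈ fixd) : kEl 11 m ≠ 1 := by
  have h := cert
  simp only [certOK, forTrees_eq, Bool.and_eq_true, List.all_eq_true] at h
  have h1 := h.2.2.2 m hm
  simp only [Bool.and_eq_true, List.all_eq_true, Nat.blt_eq, List.any_eq_true, Bool.not_eq_true'] at h1
  obtain ⟨hlt, x, hx, hne⟩ := h1
  intro he
  rw [app_eq _ hlt ⟨x, root_lt hx⟩, ← kEl, he, map_one, Equiv.Perm.one_apply, Nat.beq_refl] at hne
  exact Bool.noConfusion hne

theorem bsq {i : ℕ} (hi : i < 11) : g i * g i = 1 := by
  have h : (([i, i], []) : List ℕ × List ℕ) ∈ relList := by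
    simp only [relList, List.mem_append, List.mem_map, List.mem_range]
    exact Or.inl (Or.inl (Or.inl (Or.inl ⟨i, hi, rfl⟩)))
  simpa [prodG] using rel h

theorem bcomm {i j : ℕ} (hi : i < 11) (hj : j < 11) : g i * g j = g j * g i := by
  have h : (([i, j], [j, i]) : List ℕ × List ℕ) ∈ relList := by
    simp only [relList, List.mem_append, List.mem_flatMap, List.mem_map, List.mem_range]
    exact Or.inl (Or.inl (Or.inl (Or.inr ⟨i, hi, j, hj, rfl⟩)))
  simpa [prodG] using rel h

theorem conj_rel {k i : ℕ} (hk : k < 7) (hi : i < 11) :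
    g (11 + k) * g i = kEl 11 (mc k i) * g (11 + k) := by
  have h : (([11 + k, i], kIdx 11 (mc k i) ++ [11 + k]) : List ℕ × List ℕ) ∈ relList := by
    simp only [relList, List.mem_append, List.mem_flatMap, List.mem_map, List.mem_range]
    exact Or.inl (Or.inl (Or.inr ⟨k, hk, i, hi, rfl⟩))
  have := rel h
  rw [prodG_append, prodG_single, ← kEl] at this
  simpa [prodG] using this

theorem sq_rel {k : ℕ} (hk : k < 7) :
    g (11 + k) * g (11 + k) = kEl 11 (sqE k).2 * pEl k (sqE k).1 := by
  have h : (([11 + k, 11 + k], kIdx 11 (sqE k).2 ++ pIdx k (sqE k).1) : List ℕ × List ℕ) ∈ relList := by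
    simp only [relList, List.mem_append, List.mem_map, List.mem_range]
    exact Or.inl (Or.inr ⟨k, hk, rfl⟩)
  have := rel h
  rw [prodG_append, ← kEl, ← pEl] at this
  simpa [prodG] using this

theorem cm_rel {k j : ℕ} (hk : k < 7) (hj : j < k) :
    g (11 + k) * g (11 + j) = kEl 11 (cmE k j).2 * pEl k (cmE k j).1 * g (11 + k) := by
  have h : (([11 + k, 11 + j], kIdx 11 (cmE k j).2 ++ pIdx k (cmE k j).1 ++ [11 + k]) : List ℕ × List ℕ)
      ∈ relList := by
    simp only [relList, List.mem_append, List.mem_flatMap, List.mem_map, List.mem_range]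
    exact Or.inr ⟨k, hk, j, hj, rfl⟩
  have := rel h
  rw [prodG_append, prodG_append, prodG_single, ← kEl, ← pEl] at this
  simpa [prodG] using this

end Cfsg.Agent.Fi23Sylow
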