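import Cfsg.Prelude.Def_Transfer
import Cfsg.Agent.Lib.Fi23Sylow.Group

/-!
2^11 is the only elementary abelian subgroup of order at least 2^11 of the Sylow 2-subgroup (helper41).

* `eq_kSub_of_card`, `kSub_elementary`, `kSub_normal`, `card_kSub`
-/

set_option autoImplicit false
set_option maxRecDepth 10000

namespace Cfsg.Agent.Fi23Sylow

open Cfsg

theorem card_kSub : Nat.card kSub = 2 ^ 11 := by
  have hb : Function.Bijective (fun p : Fin 2048 => (⟨kEl 11 p, (p : ℕ), p.2, rfl⟩ : kSub)) := by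
    constructor
    · exact fun p q h => Fin.ext (kEl_inj p.2 q.2 (congrArg Subtype.val h))
    · rintro ⟨x, m, hm, rfl⟩
      exact ⟨⟨m, hm⟩, rfl⟩
  rw [← Nat.card_congr (Equiv.ofBijective _ hb)]
  simp

theorem kSub_le : kSub ≤ sylowSub := by
  rintro _ ⟨m, -, rfl⟩
  exact ⟨m, 0, by rw [pEl_zero, mul_one]⟩

theorem kSub_elementary : IsElementaryAbelian 2 kSub := by
  refine ⟨⟨⟨?_⟩⟩, ?_⟩
  · rintro ⟨_, a, ha, rfl⟩ ⟨_, b, hb, rfl⟩
    exact Subtype.ext (show kEl 11 a * kEl 11 b = kEl 11 b * kEl 11 a by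
      rw [kEl_mul le_rfl, kEl_mul le_rfl, Nat.xor_comm])
  · rintro _ ⟨a, ha, rfl⟩
    rw [pow_two, kEl_mul le_rfl, Nat.xor_self, kEl_zero]

theorem kSub_normal : (kSub.subgroupOf sylowSub).Normal := by
  refine ⟨fun n hn x => ?_⟩
  obtain ⟨v, hv, hn'⟩ := Subgroup.mem_subgroupOf.mp hn
  obtain ⟨m, e, hm, he, hx⟩ := exists_nf x.2
  rw [Subgroup.mem_subgroupOf]
  refine ⟨apT e v, apT_lt e v, ?_⟩
  show (x : _) * (n : CosetEnum.fi23Setup.G) * (x : CosetEnum.fi23Setup.G)⁻¹ = _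
  rw [hn', hx, nf_kEl he hv, mul_inv_cancel_right]

theorem fixed_card_le {Fs : Finset ℕ} (S : List ℕ) {n : ℕ} (hS : S.length = n)
    (hlt : ∀ m ∈ Fs, m < 2048)
    (hz : ∀ m ∈ Fs, ∀ m' ∈ Fs, (m ^^^ m') ∈ cand S 11 → m ^^^ m' = 0) : Fs.card ≤ 2 ^ n := by
  subst hS
  have h := Finset.card_le_card_of_injOn (s := Fs) (t := (Finset.univ : Finset (Fin S.length → Bool)))
    (fun m i => m.testBit S[i]) (fun _ _ => Finset.mem_coe.mpr (Finset.mem_univ _)) ?_
  · simpa using h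
  intro m hm m' hm' heq
  refine Nat.eq_of_xor_eq_zero (hz m hm m' hm' (mem_cand ?_ fun i hi => ?_))
  · exact Nat.xor_lt_two_pow (n := 11) (hlt m hm) (hlt m' hm')
  · obtain ⟨j, hj, rfl⟩ := List.getElem_of_mem hi
    have := congrFun heq ⟨j, hj⟩
    rw [Nat.testBit_xor]
    simpa using this

theorem eq_kSub_of_card {A : Subgroup CosetEnum.fi23Setup.G} (hle : A ≤ sylowSub) (hA : IsElementaryAbelian 2 A)
    (hcard : 2 ^ 11 ≤ Nat.card A) : A = kSub := by
  classical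
  have := fi23_finite
  obtain ⟨hcomm, hsq⟩ := hA
  have comm : ∀ a ∈ A, ∀ b ∈ A, a * b = b * a := fun a ha b hb =>
    congrArg Subtype.val (hcomm.1.1 (⟨a, ha⟩ : A) ⟨b, hb⟩)
  set B : Finset ℕ := (Finset.range 128).filter fun e => ∃ m, m < 2048 ∧ kEl 11 m * pEl 7 e ∈ A with hB
  have memB : ∀ {e}, e ∈ B → e < 128 ∧ ∃ m, m < 2048 ∧ kEl 11 m * pEl 7 e ∈ A := by
    intro e he
    simpa [hB] using he
  set Fs : Finset ℕ := (Finset.range 2048).filter fun d => ∀ e ∈ B, apT e d = d with hFs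
  have mv : ∀ {e i : ℕ}, i < 11 → mt e i < 2048 ∧ 1 <<< i < 2048 := fun {e i} hi =>
    ⟨mt_lt e i, by rw [Nat.one_shiftLeft]; exact (Nat.pow_lt_pow_right (by norm_num) hi).trans_le le_rfl⟩
  have act2 : ∀ {x y : ℕ}, x < 128 → y < 128 → ∀ (m n : ℕ) {v : ℕ}, v < 2048 →
      kEl 11 m * pEl 7 x * (kEl 11 n * pEl 7 y) * kEl 11 v =
        kEl 11 (apT x (apT y v)) * (kEl 11 m * pEl 7 x * (kEl 11 n * pEl 7 y)) := by
    intro x y hx1 hy1 m n v hv
    rw [mul_assoc, nf_kEl hy1 hv, ← mul_assoc, nf_kEl hx1 (apT_lt _ _)]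
    simp only [mul_assoc]
  have hcommB : ∀ {x y}, x ∈ B → y ∈ B → commB x y = true := by
    intro x y hx hy
    obtain ⟨hx1, m, hm, hxA⟩ := memB hx
    obtain ⟨hy1, n, hn, hyA⟩ := memB hy
    simp only [commB, List.all_eq_true, List.mem_range]
    intro i hi
    obtain ⟨-, hv⟩ := mv (e := x) hi
    rw [← apT_single hi, ← apT_single hi]
    refine CosetEnum.beq_iff.mpr (kEl_inj (apT_lt _ _) (apT_lt _ _) ?_)
    refine mul_right_cancel (b := (kEl 11 m * pEl 7 x) * (kEl 11 n * pEl 7 y)) ?_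
    rw [← act2 hx1 hy1 m n hv]
    conv_rhs => rw [comm _ hxA _ hyA, ← act2 hy1 hx1 n m hv, comm _ hyA _ hxA]
  have hinvB : ∀ {x}, x ∈ B → x ≠ 0 → x ∈ invs := by
    intro x hx h0
    obtain ⟨hx1, m, hm, hxA⟩ := memB hx
    refine inv_mem hx1 h0 ?_
    simp only [invB, List.all_eq_true, List.mem_range]
    intro i hi
    obtain ⟨-, hv⟩ := mv (e := x) hi
    have h2 := hsq _ hxA
    rw [pow_two] at h2
    rw [← apT_single hi]
    refine CosetEnum.beq_iff.mpr (kEl_inj (apT_lt _ _) hv ?_)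
    refine mul_right_cancel (b := (kEl 11 m * pEl 7 x) * (kEl 11 m * pEl 7 x)) ?_
    rw [← act2 hx1 hx1 m m hv, h2, one_mul, mul_one]
  -- the size bound
  have key : Nat.card A ≤ B.card * Fs.card := by
    choose! m e hm he hx using fun a (ha : a ∈ A) => exists_nf (hle ha)
    choose! r hr hrA using fun x (hx : x ∈ B) => (memB hx).2
    have hd : ∀ a : A, (m a.1 ^^^ r (e a.1)) ∈ Fs ∧ e a.1 ∈ B := by
      intro a
      have heB : e a.1 ∈ B := by
        simp only [hB, Finset.mem_filter, Finset.mem_range]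
        exact ⟨he _ a.2, m a.1, hm _ a.2, hx _ a.2 ▸ a.2⟩
      have hdlt : m a.1 ^^^ r (e a.1) < 2048 := Nat.xor_lt_two_pow (n := 11) (hm _ a.2) (hr _ heB)
      have hdA : kEl 11 (m a.1 ^^^ r (e a.1)) ∈ A := by
        have h1 := A.mul_mem a.2 (A.inv_mem (hrA _ heB))
        have h2 : a.1 * (kEl 11 (r (e a.1)) * pEl 7 (e a.1))⁻¹ = kEl 11 (m a.1 ^^^ r (e a.1)) := by
          rw [mul_inv_eq_iff_eq_mul, ← mul_assoc, kEl_mul le_rfl, Nat.xor_assoc, Nat.xor_self, Nat.xor_zero]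
          exact hx _ a.2
        exact h2 ▸ h1
      refine ⟨?_, heB⟩
      simp only [hFs, Finset.mem_filter, Finset.mem_range]
      refine ⟨hdlt, fun x hxB => ?_⟩
      obtain ⟨hx1, n, hn, hxA⟩ := memB hxB
      have h3 := comm _ hxA _ hdA
      rw [nf_kEl hx1 hdlt] at h3
      exact kEl_inj (apT_lt _ _) hdlt (mul_right_cancel h3)
    calc Nat.card A ≤ Nat.card (B × Fs) := by
          refine Nat.card_le_card_of_injective
            (fun a => (⟨e a.1, (hd a).2⟩, ⟨m a.1 ^^^ r (e a.1), (hd a).1⟩)) fun a b h => ?_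
          simp only [Prod.mk.injEq, Subtype.mk.injEq] at h
          obtain ⟨h1, h2⟩ := h
          rw [h1] at h2
          apply Subtype.ext
          rw [hx _ a.2, hx _ b.2, h1, Nat.xor_left_inj.mp h2]
      _ = B.card * Fs.card := by rw [Nat.card_prod]; simp
  have hFlt : ∀ d ∈ Fs, d < 2048 := fun d hd => Finset.mem_range.mp (Finset.mem_filter.mp hd).1
  have hFfix : ∀ d ∈ Fs, ∀ x ∈ B, apT x d = d := fun d hd => (Finset.mem_filter.mp hd).2
  by_cases h0 : ∀ x ∈ B, x = 0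
  · refine Subgroup.eq_of_le_of_card_ge (fun a ha => ?_) (by rw [card_kSub]; exact hcard)
    obtain ⟨m, e, hm, he, rfl⟩ := exists_nf (hle ha)
    obtain rfl := h0 e (by simp only [hB, Finset.mem_filter, Finset.mem_range]; exact ⟨he, m, hm, ha⟩)
    exact ⟨m, hm, by rw [pEl_zero, mul_one]⟩
  exfalso
  push_neg at h0
  obtain ⟨x, hx, hx0⟩ := h0
  have hxi := hinvB hx hx0
  by_cases h1 : B ⊆ {0, x}
  · have hB2 : B.card ≤ 2 := (Finset.card_le_card h1).trans Finset.card_le_two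
    rw [← single_keys, List.mem_map] at hxi
    obtain ⟨p, hp, rfl⟩ := hxi
    have hp' := List.all_eq_true.mp single_check p hp
    simp only [Bool.and_eq_true, List.all_eq_true, Bool.or_eq_true, Bool.not_eq_true', CosetEnum.beq_iff] at hp'
    have hF : Fs.card ≤ 2 ^ 7 := by
      refine fixed_card_le p.2 hp'.1 hFlt fun d hd d' hd' hc => (hp'.2 _ hc).resolve_right fun hf => ?_
      rw [apT, apN_xor, ← apT, ← apT, hFfix d hd _ hx, hFfix d' hd' _ hx, Nat.beq_refl] at hf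
      exact Bool.noConfusion hf
    have := key.trans (Nat.mul_le_mul hB2 hF)
    omega
  obtain ⟨y, hy, hyn⟩ := Finset.not_subset.mp h1
  simp only [Finset.mem_insert, Finset.mem_singleton, not_or] at hyn
  obtain ⟨hy0, hyx⟩ := hyn
  have hyi := hinvB hy hy0
  have hB28 : B.card ≤ 28 := by
    obtain ⟨a, haB, hai, hac⟩ : ∃ a ∈ B, a ∈ invs ∧ a ≠ cen := by
      rcases eq_or_ne x cen with h | h
      · exact ⟨y, hy, hyi, fun h' => hyx (h'.trans h.symm)⟩
      · exact ⟨x, hx, hxi, h⟩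
    have hd := List.all_eq_true.mp deg_check a hai
    simp only [Bool.or_eq_true, CosetEnum.beq_iff, Nat.ble_eq] at hd
    have hsub : B ⊆ insert 0 (invs.filter (commB a)).toFinset := by
      intro z hz
      rcases eq_or_ne z 0 with rfl | hz0
      · exact Finset.mem_insert_self _ _
      · exact Finset.mem_insert_of_mem (List.mem_toFinset.mpr
          (List.mem_filter.mpr ⟨hinvB hz hz0, hcommB haB hz⟩))
    have := (Finset.card_le_card hsub).trans (Finset.card_insert_le _ _)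
    have := (List.toFinset_card_le (invs.filter (commB a)))
    have := hd.resolve_left hac
    omega
  obtain ⟨u, v, hu, hv, huv⟩ : ∃ u v, u ∈ B ∧ v ∈ B ∧ u < v ∧ u ∈ invs ∧ v ∈ invs := by
    rcases lt_or_gt_of_ne hyx with h | h
    · exact ⟨y, x, hy, hx, h, hyi, hxi⟩
    · exact ⟨x, y, hx, hy, h, hxi, hyi⟩
  have hkey : (u, v) ∈ pairs.map Prod.fst := by
    rw [pair_keys, List.mem_flatMap]
    exact ⟨u, huv.2.1, List.mem_map.mpr ⟨v, List.mem_filter.mpr ⟨huv.2.2,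
      Bool.and_eq_true_iff.mpr ⟨Nat.blt_eq.mpr huv.1, hcommB hu hv⟩⟩, rfl⟩⟩
  obtain ⟨p, hp, hpe⟩ := List.mem_map.mp hkey
  have hp' := List.all_eq_true.mp pair_check p hp
  simp only [Bool.and_eq_true, List.all_eq_true, Bool.or_eq_true, Bool.not_eq_true', CosetEnum.beq_iff] at hp'
  have hF : Fs.card ≤ 2 ^ 6 := by
    refine fixed_card_le p.2 hp'.1 hFlt fun d hd d' hd' hc => (hp'.2 _ hc).resolve_right fun hf => ?_
    rw [hpe] at hf
    rw [apT, apT, apN_xor, apN_xor, ← apT, ← apT, ← apT, ← apT, hFfix d hd _ hu, hFfix d' hd' _ hu,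
      hFfix d hd _ hv, hFfix d' hd' _ hv, Nat.beq_refl] at hf
    rcases hf with hf | hf <;> exact Bool.noConfusion hf
  have := key.trans (Nat.mul_le_mul hB28 hF)
  omega

end Cfsg.Agent.Fi23Sylow
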